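import Groth.Agent.CycLib28.Sp.Functorial
import Groth.Agent.CycLib28.PB.GysinSquare
import Groth.Agent.CycLib28.P1Inter

/-!
# The two fibres over a discrete valuation ring, and the compatibility of specialisation
with flat pullback and proper pushforward
-/

set_option autoImplicit false
set_option backward.isDefEq.respectTransparency false
set_option linter.style.haveILetI false
set_option linter.unusedSectionVars false

universe u

open CategoryTheory CategoryTheory.Limits AlgebraicGeometry IsLocalRing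
open Groth.Agent.CycLim28 Groth.Agent.CycLib28.PB

namespace Groth.Agent.CycLib28.Sp

variable {R : Type u} [CommRing R] [IsDomain R] [IsDiscreteValuationRing R]
variable {X Y : Scheme.{u}}

local notation "B" => Spec (CommRingCat.of R)

theorem isOpenImmersion_fiberι_gen (a : X ⟶ B) : IsOpenImmersion (a.fiberι (gen R)) := by
  haveI h : IsOpenImmersion ((Spec (CommRingCat.of R)).fromSpecResidueField (gen R)) := by
    rw [show gen R = (⟨⊥, Ideal.isPrime_bot⟩ : PrimeSpectrum R) from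
      genericPoint_eq_bot_of_affine (CommRingCat.of R)]
    exact FlatMorDVR.isOpenImmersion_fromSpecResidueField_generic
  exact MorphismProperty.pullback_fst _ _ h

theorem quasiCompact_fiberι_gen (a : X ⟶ B) : QuasiCompact (a.fiberι (gen R)) :=
  MorphismProperty.pullback_fst _ _ (inferInstance : QuasiCompact ((Spec (CommRingCat.of R)).fromSpecResidueField (gen R)))

theorem isClosedImmersion_fiberι_clo (a : X ⟶ B) : IsClosedImmersion (a.fiberι (clo R)) :=
  MorphismProperty.pullback_fst _ _ (IsClosedImmersion.of_isPreimmersion _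
    (by rw [Scheme.range_fromSpecResidueField]; exact isClosed_clo R))

/-- Extension by zero of a cycle along a quasi-compact injection. -/
theorem exists_extend_cycle {Z : Scheme.{u}} (i : Z ⟶ X) [QuasiCompact i] (hi : Function.Injective i)
    (α : AlgebraicCycle Z ℤ) : ∃ C : AlgebraicCycle X ℤ, ⇑C = Function.extend i ⇑α 0 := by
  refine ⟨⟨Function.extend i ⇑α 0, fun x hx => Set.mem_univ x, fun x _ => ?_⟩, rfl⟩
  obtain ⟨_, ⟨U, hU, rfl⟩, hxU, -⟩ :=
    X.isBasis_affineOpens.exists_subset_of_mem_open (Set.mem_univ x) isOpen_univ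
  have hUa : IsAffineOpen U := hU
  refine ⟨U, U.2.mem_nhds hxU, ?_⟩
  refine (((Function.locallyFinsupp.locallyFiniteSupport α).finite_inter_support_of_isCompact
    (i.isCompact_preimage hUa.isCompact)).image i).subset fun y hy => ?_
  obtain ⟨z, rfl⟩ : y ∈ Set.range i := by
    by_contra hn
    exact hy.2 (Function.extend_apply' _ _ _ hn)
  have h := hy.2
  rw [Function.mem_support, hi.extend_apply] at h
  exact ⟨z, ⟨hy.1, h⟩, rfl⟩

theorem pullFun_shift (f : X ⟶ Y) (δX δX' : X → ℤ) (δY δY' : Y → ℤ) (r : ℤ) (α : Y → ℤ) {x : X}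
    (h : δX' x - δX x = δY' (f x) - δY (f x)) :
    Cyc.pullFun f δX' δY' r α x = Cyc.pullFun f δX δY r α x := by
  unfold Cyc.pullFun
  exact if_congr (by omega) rfl rfl

theorem lenFibre_openImmersion {A C : Scheme.{u}} (e : A ⟶ C) [IsOpenImmersion e] (z : A) :
    lenFibre e z = 1 := by
  unfold lenFibre
  have hs : Function.Surjective (e.stalkMap z).hom := (ConcreteCategory.bijective_of_isIso (e.stalkMap z)).2
  rw [show Ideal.map (e.stalkMap z).hom (maximalIdeal (C.presheaf.stalk (e z))) = maximalIdeal (A.presheaf.stalk z) by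
    rw [← IsLocalRing.maximalIdeal_comap (e.stalkMap z).hom, Ideal.map_comap_of_surjective _ hs],
    Module.length_eq_one_iff]
  exact isSimpleModule_iff_isCoatom.2 (IsLocalRing.maximalIdeal.isMaximal _).1

theorem lenFibre_congr {A C : Scheme.{u}} {e e' : A ⟶ C} (h : e = e') (z : A) : lenFibre e z = lenFibre e' z := by
  subst h; rfl

/-- flat pullback in a cartesian square of open immersions -/
theorem pullFun_open_square {D D' X' : Scheme.{u}} (g : X' ⟶ X) [Flat g] (i : D ⟶ X) [IsOpenImmersion i]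
    {g' : D' ⟶ D} {i' : D' ⟶ X'} [IsOpenImmersion i'] (hsq : IsPullback i' g' g i) (δ' : X' → ℤ)
    (δ : X → ℤ) (r : ℤ) (β : X → ℤ) (z : D') :
    Cyc.pullFun g' (fun z ↦ δ' (i' z)) (fun d ↦ δ (i d)) r (fun d ↦ β (i d)) z =
      Cyc.pullFun g δ' δ r β (i' z) := by
  haveI : Flat g' := MorphismProperty.of_isPullback hsq (inferInstance : Flat g)
  have h2 : g (i' z) = i (g' z) := congrArg (fun m : D' ⟶ X => m z) hsq.w
  have hlen : lenFibre g' z = lenFibre g (i' z) := by
    have := lenFibre_congr hsq.w z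
    rw [lenFibre_comp, lenFibre_comp, lenFibre_openImmersion i', lenFibre_openImmersion i, mul_one,
      one_mul] at this
    exact this.symm
  simp only [Cyc.pullFun]
  simp only [lenFibre] at hlen
  rw [hlen, ← h2]

/-- proper pushforward in a cartesian square of preimmersions -/
theorem map_square {D D' X' : Scheme.{u}} (f : X' ⟶ X) [QuasiCompact f] (i : D ⟶ X) [IsPreimmersion i]
    {g : D' ⟶ D} [QuasiCompact g] {i' : D' ⟶ X'} [IsPreimmersion i'] (hsq : IsPullback i' g f i)
    {δD' : D' → ℤ} {δD : D → ℤ} {δ' : X' → ℤ} {δ : X → ℤ}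
    (hδ : ∀ w, δ' (i' w) - δD' w = δ (i (g w)) - δD (g w))
    (c : AlgebraicCycle X' ℤ) (β : AlgebraicCycle D' ℤ) (hβ : ∀ w, β w = c (i' w)) (z : D) :
    AlgebraicCycle.map g δD' δD β z = AlgebraicCycle.map f δ' δ c (i z) := by
  have hw : ∀ w, f (i' w) = i (g w) := fun w => congrArg (fun m : D' ⟶ X => m w) hsq.w
  have hset : f ⁻¹' {i z} = i' '' (g ⁻¹' {z}) := by
    ext x
    constructor
    · intro hx
      obtain ⟨w, hw1, hw2⟩ := Scheme.exists_preimage_of_isPullback hsq x z hx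
      exact ⟨w, hw2, hw1⟩
    · rintro ⟨w, hw2, rfl⟩
      show f (i' w) = i z
      rw [hw w, show g w = z from hw2]
  rw [map_apply, map_apply, hset, finsum_mem_image i'.isEmbedding.injective.injOn]
  refine finsum_congr fun w => ?_
  refine finsum_congr fun _ => ?_
  rw [hβ]
  congr 2
  unfold AlgebraicCycle.mapCoeff
  have hdeg : g.residueDegree w = f.residueDegree (i' w) := by
    have h1 : ∀ {m m' : D' ⟶ X} (_ : m = m'), m.residueDegree w = m'.residueDegree w :=
      fun e => by subst e; rfl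
    have := h1 hsq.w
    rw [residueDegree_comp, residueDegree_comp, residueDegree_preimmersion i',
      residueDegree_preimmersion i, mul_one, one_mul] at this
    exact this.symm
  refine if_congr ?_ hdeg rfl
  have := hδ w
  have h3 := hw w
  simp only [h3]
  omega

section Square

variable {X' : Scheme.{u}} (b : X ⟶ Spec (CommRingCat.of R)) (f : X' ⟶ X) (y : ↥(Spec (CommRingCat.of R)))

/-- The map of fibres. -/
noncomputable abbrev fibMap : (f ≫ b).fiber y ⟶ b.fiber y :=
  pullback.map (f ≫ b) ((Spec (CommRingCat.of R)).fromSpecResidueField y) b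
    ((Spec (CommRingCat.of R)).fromSpecResidueField y) f (𝟙 _) (𝟙 _) (Category.comp_id _)
    ((Category.comp_id _).trans (Category.id_comp _).symm)

theorem fibSquare : IsPullback ((f ≫ b).fiberι y) (fibMap b f y) f (b.fiberι y) := by
  refine (IsPullback.of_right ?_ ?_
    (IsPullback.of_hasPullback b ((Spec (CommRingCat.of R)).fromSpecResidueField y)).flip).flip
  · have h := (IsPullback.of_hasPullback (f ≫ b) ((Spec (CommRingCat.of R)).fromSpecResidueField y)).flip
    rwa [show fibMap b f y ≫ pullback.snd b ((Spec (CommRingCat.of R)).fromSpecResidueField y) =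
      pullback.snd _ _ from (pullback.lift_snd _ _ _).trans (Category.comp_id _)]
  · exact pullback.lift_fst _ _ _

theorem delta_fibMap {δ' : X' → ℤ} {δ : X → ℤ} (hδ' : Cyc.DeltaCompat (f ≫ b) δ' (dB R))
    (hδ : Cyc.DeltaCompat b δ (dB R)) {δy' : ↥((f ≫ b).fiber y) → ℤ} {δy : ↥(b.fiber y) → ℤ}
    (hy' : Cyc.DeltaCompat ((f ≫ b).fiberToSpecResidueField y) δy' (fun _ => 0))
    (hy : Cyc.DeltaCompat (b.fiberToSpecResidueField y) δy (fun _ => 0)) (w : ↥((f ≫ b).fiber y)) :
    δ' ((f ≫ b).fiberι y w) - δy' w = δ (b.fiberι y (fibMap b f y w)) - δy (fibMap b f y w) := by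
  rw [delta_fiberι _ hδ' y hy', delta_fiberι _ hδ y hy]
  ring

end Square

theorem spFun_pullFun {X' : Scheme.{u}} (b : X ⟶ B) [LocallyOfFiniteType b] (f : X' ⟶ X) [Flat f]
    [LocallyOfFiniteType f] (e : ℕ) (he : Cyc.HasRelDim f e)
    {δX'η : ↥((f ≫ b).fiber (gen R)) → ℤ} {δX's : ↥((f ≫ b).fiber (clo R)) → ℤ}
    {δXη : ↥(b.fiber (gen R)) → ℤ} {δXs : ↥(b.fiber (clo R)) → ℤ}
    (h1 : Cyc.DeltaCompat ((f ≫ b).fiberToSpecResidueField (gen R)) δX'η (fun _ => 0))
    (h2 : Cyc.DeltaCompat ((f ≫ b).fiberToSpecResidueField (clo R)) δX's (fun _ => 0))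
    (h3 : Cyc.DeltaCompat (b.fiberToSpecResidueField (gen R)) δXη (fun _ => 0))
    (h4 : Cyc.DeltaCompat (b.fiberToSpecResidueField (clo R)) δXs (fun _ => 0)) (r : ℤ)
    (α : AlgebraicCycle (b.fiber (gen R)) ℤ) (hα : α ∈ Cyc.Zk (b.fiber (gen R)) δXη r) :
    Cyc.spFun (f ≫ b) (gen R) (clo R) δX'η δX's (r + e) (Cyc.pullFun (fibMap b f (gen R)) δX'η δXη e ⇑α) =
      Cyc.pullFun (fibMap b f (clo R)) δX's δXs e (Cyc.spFun b (gen R) (clo R) δXη δXs r ⇑α) := by
  classical
  obtain ⟨δ, hδ⟩ := exists_deltaCompat_of_locallyOfFiniteType b (dB R)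
  obtain ⟨δ', hf⟩ := exists_deltaCompat_of_locallyOfFiniteType f δ
  have hδ' := P1Inter.deltaCompat_comp f b hf hδ
  obtain ⟨hNX, -, hdX⟩ := isSetup_of_compat b hδ
  obtain ⟨hNX', -, hdX'⟩ := isSetup_of_compat (f ≫ b) hδ'
  haveI := hNX; haveI := hNX'
  haveI := isOpenImmersion_fiberι_gen b; haveI := isOpenImmersion_fiberι_gen (f ≫ b)
  haveI := quasiCompact_fiberι_gen b
  haveI := isClosedImmersion_fiberι_clo b
  have hsuppα : ∀ z, α z ≠ 0 → δXη z = r := fun z hz => by_contra fun hne => hz (hα z hne)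
  obtain ⟨C, hC⟩ := exists_extend_cycle (b.fiberι (gen R)) (b.fiberι (gen R)).isEmbedding.injective α
  have hCz : ∀ d, C (b.fiberι (gen R) d) = α d := fun d => by
    rw [hC]; exact (b.fiberι (gen R)).isEmbedding.injective.extend_apply _ _ _
  have hCgen : ∀ η, C η ≠ 0 → b η = gen R := fun η hη => by
    by_contra hn
    exact hη (by rw [hC]; exact ext_of_ne_gen b ⇑α hn)
  have hc : ∀ x, GenInFibre f x → δ' x = δ (f x) + (e : ℤ) := fun x hx => delta_of_hasRelDim f he hf x hx
  funext x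
  rw [spFun_eq (f ≫ b) hδ' h1 h2 _ _ (fun z hz => ?_) x]
  swap
  · unfold Cyc.pullFun at hz
    split_ifs at hz with h
    · rw [h, hsuppα _ (left_ne_zero_of_mul hz)]
    · exact absurd rfl hz
  have hext : ext (f ≫ b) (Cyc.pullFun (fibMap b f (gen R)) δX'η δXη e ⇑α) = Cyc.pullFun f δ' δ e ⇑C := by
    funext x'
    by_cases hx' : (f ≫ b) x' = gen R
    · obtain ⟨z, rfl⟩ : x' ∈ Set.range ((f ≫ b).fiberι (gen R)) := ((f ≫ b).range_fiberι (gen R)).ge hx'
      rw [ext_apply, ← pullFun_open_square f (b.fiberι (gen R)) (fibSquare b f (gen R)) δ' δ e ⇑C z]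
      simp only [hCz]
      exact (pullFun_shift _ _ _ _ _ _ _ (delta_fibMap b f _ hδ' hδ h1 h3 z)).symm
    · rw [ext_of_ne_gen _ _ hx', pullFun_eq f δ' δ e hc,
        show C (f x') = 0 from by_contra fun hn => hx' (hCgen _ hn), zero_mul]
  rw [hext, ← divPi_pullback b f hdX' hdX e hc C hCgen,
    ← pullFun_closed_square f (b.fiberι (clo R)) (fibSquare b f (clo R)) δ' δ e (divPi b δ ⇑C) x,
    pullFun_shift _ _ _ _ _ _ _ (delta_fibMap b f _ hδ' hδ h2 h4 x)]
  congr 1
  funext d
  rw [spFun_eq b hδ h3 h4 r _ hsuppα d, hC]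
  rfl

theorem spFun_map (b : Y ⟶ B) [LocallyOfFiniteType b] (f : X ⟶ Y) [IsProper f]
    {δXη : ↥((f ≫ b).fiber (gen R)) → ℤ} {δXs : ↥((f ≫ b).fiber (clo R)) → ℤ}
    {δYη : ↥(b.fiber (gen R)) → ℤ} {δYs : ↥(b.fiber (clo R)) → ℤ}
    (hXη : Cyc.DeltaCompat ((f ≫ b).fiberToSpecResidueField (gen R)) δXη (fun _ => 0))
    (hXs : Cyc.DeltaCompat ((f ≫ b).fiberToSpecResidueField (clo R)) δXs (fun _ => 0))
    (hYη : Cyc.DeltaCompat (b.fiberToSpecResidueField (gen R)) δYη (fun _ => 0))
    (hYs : Cyc.DeltaCompat (b.fiberToSpecResidueField (clo R)) δYs (fun _ => 0))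
    [QuasiCompact (fibMap b f (gen R))] [QuasiCompact (fibMap b f (clo R))] (r : ℤ)
    (α : AlgebraicCycle ((f ≫ b).fiber (gen R)) ℤ) (hα : α ∈ Cyc.Zk ((f ≫ b).fiber (gen R)) δXη r)
    (β : AlgebraicCycle ((f ≫ b).fiber (clo R)) ℤ)
    (hβ : ⇑β = Cyc.spFun (f ≫ b) (gen R) (clo R) δXη δXs r ⇑α) :
    Cyc.spFun b (gen R) (clo R) δYη δYs r ⇑(AlgebraicCycle.map (fibMap b f (gen R)) δXη δYη α) =
      ⇑(AlgebraicCycle.map (fibMap b f (clo R)) δXs δYs β) := by
  classical
  obtain ⟨δ, hδ⟩ := exists_deltaCompat_of_locallyOfFiniteType b (dB R)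
  obtain ⟨δ', hf⟩ := exists_deltaCompat_of_locallyOfFiniteType f δ
  have hδ' := P1Inter.deltaCompat_comp f b hf hδ
  obtain ⟨hNY, -, hdY⟩ := isSetup_of_compat b hδ
  obtain ⟨hNX, -, hdX⟩ := isSetup_of_compat (f ≫ b) hδ'
  haveI := hNX; haveI := hNY
  haveI := isOpenImmersion_fiberι_gen b; haveI := isOpenImmersion_fiberι_gen (f ≫ b)
  haveI := quasiCompact_fiberι_gen (f ≫ b)
  haveI := isClosedImmersion_fiberι_clo b; haveI := isClosedImmersion_fiberι_clo (f ≫ b)
  have hsuppα : ∀ z, α z ≠ 0 → δXη z = r := fun z hz => by_contra fun hne => hz (hα z hne)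
  have injη := ((f ≫ b).fiberι (gen R)).isEmbedding.injective
  have injs := ((f ≫ b).fiberι (clo R)).isEmbedding.injective
  obtain ⟨C, hC⟩ := exists_extend_cycle ((f ≫ b).fiberι (gen R)) injη α
  obtain ⟨D, hD⟩ := exists_extend_cycle ((f ≫ b).fiberι (clo R)) injs β
  have hCgen : ∀ ξ, C ξ ≠ 0 → b (f ξ) = gen R := fun ξ hξ => by
    by_contra hn
    exact hξ (by rw [hC]; exact ext_of_ne_gen (f ≫ b) ⇑α hn)
  have hCz : ∀ w, α w = C ((f ≫ b).fiberι (gen R) w) := fun w => by
    rw [hC]; exact (injη.extend_apply _ _ _).symm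
  have hDz : ∀ w, β w = D ((f ≫ b).fiberι (clo R) w) := fun w => by
    rw [hD]; exact (injs.extend_apply _ _ _).symm
  funext y
  rw [spFun_eq b hδ hYη hYs r _ (fun z hz => ?_) y]
  swap
  · rw [map_apply] at hz
    obtain ⟨w, hw, h⟩ := exists_ne_zero_of_finsum_mem_ne_zero hz
    have h1 := right_ne_zero_of_mul h
    unfold AlgebraicCycle.mapCoeff at h1
    split_ifs at h1 with hd
    · rw [← hsuppα w (left_ne_zero_of_mul h), hd, show fibMap b f (gen R) w = z from hw]
    · simp at h1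
  have hext : ext b ⇑(AlgebraicCycle.map (fibMap b f (gen R)) δXη δYη α) = ⇑(AlgebraicCycle.map f δ' δ C) := by
    funext y'
    by_cases hy' : b y' = gen R
    · obtain ⟨z, rfl⟩ : y' ∈ Set.range (b.fiberι (gen R)) := (b.range_fiberι (gen R)).ge hy'
      rw [ext_apply]
      exact map_square f (b.fiberι (gen R)) (fibSquare b f (gen R)) (delta_fibMap b f _ hδ' hδ hXη hYη) C α hCz z
    · rw [ext_of_ne_gen _ _ hy', map_apply]
      refine (finsum_mem_of_eqOn_zero fun x hx => ?_).symm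
      have : C x = 0 := by_contra fun hn => hy' (by rw [← show f x = y' from hx]; exact hCgen x hn)
      simp [this]
  rw [hext, map_square f (b.fiberι (clo R)) (fibSquare b f (clo R)) (delta_fibMap b f _ hδ' hδ hXs hYs) D β hDz y]
  refine (divPi_map b f hdX hdY hf C hCgen D _ fun x hx => ?_).symm
  obtain ⟨w, rfl, -⟩ := Scheme.exists_preimage_of_isPullback (fibSquare b f (clo R)) x y hx
  rw [← hDz w, hβ, spFun_eq (f ≫ b) hδ' hXη hXs r _ hsuppα w, hC]
  rfl

end Groth.Agent.CycLib28.Sp
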