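import Groth.Agent.CycLib28.PushAny
import Groth.Agent.CycLib28.FlatDiv
import Groth.Agent.CycLib28.OrdRestrict
import Groth.Agent.CycLib28.P1GraphClosure
import Groth.Agent.CycLib28.PB.ChernExist
import Groth.Agent.FlatMorDVR.Reduced
import Groth.Agent.EGA43.RectDepthJacobson
import Groth.Agent.CAlgMisc2.CatenaryLocal

/-!
# Specialisation of cycles over a discrete valuation ring as intersection with the special fibre
-/

set_option autoImplicit false
set_option backward.isDefEq.respectTransparency false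
set_option linter.style.haveILetI false
set_option linter.unusedSectionVars false

universe u

open CategoryTheory CategoryTheory.Limits AlgebraicGeometry IsLocalRing
open Groth.Agent.CycLim28

namespace Groth.Agent.CycLib28.Sp

variable (R : Type u) [CommRing R] [IsDomain R] [IsDiscreteValuationRing R]

local notation "B" => Spec (CommRingCat.of R)

/-- The generic point. -/
noncomputable abbrev gen : ↥B := genericPoint ↥B

/-- The closed point. -/
noncomputable abbrev clo : ↥B := IsLocalRing.closedPoint R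

theorem gen_asIdeal : (gen R).asIdeal = ⊥ := by
  rw [show gen R = (⟨⊥, Ideal.isPrime_bot⟩ : PrimeSpectrum R) from
    genericPoint_eq_bot_of_affine (CommRingCat.of R)]

theorem eq_gen_or_clo (y : ↥B) : y = gen R ∨ y = clo R := by
  by_cases h : y.asIdeal = ⊥
  · exact Or.inl (PrimeSpectrum.ext (h.trans (gen_asIdeal R).symm))
  · haveI : y.asIdeal.IsMaximal := Ideal.IsPrime.isMaximal inferInstance h
    exact Or.inr (PrimeSpectrum.ext (IsLocalRing.eq_maximalIdeal inferInstance))

theorem clo_ne_gen : clo R ≠ gen R := fun h =>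
  IsDiscreteValuationRing.not_a_field R ((congrArg PrimeSpectrum.asIdeal h).trans (gen_asIdeal R))

theorem isClosed_clo : IsClosed ({clo R} : Set ↥B) :=
  (PrimeSpectrum.isClosed_singleton_iff_isMaximal _).2 (IsLocalRing.maximalIdeal.isMaximal R)

open Classical in
/-- The dimension function of the base. -/
noncomputable def dB (y : ↥B) : ℤ := if y = gen R then 1 else 0

theorem dB_gen : dB R (gen R) = 1 := if_pos rfl

theorem dB_clo : dB R (clo R) = 0 := if_neg (clo_ne_gen R)

theorem isDimFun_dB : Cyc.IsDimFun B (dB R) := by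
  intro x y h hne
  rcases eq_gen_or_clo R x with rfl | rfl
  · rcases eq_gen_or_clo R y with rfl | rfl
    · exact absurd rfl hne
    · rw [dB_gen, dB_clo]
      exact ⟨by omega, fun _ => by omega⟩
  · exact absurd ((h.mem_closed (isClosed_clo R) rfl)).symm hne

theorem isSetup_dB : Cyc.IsSetup B (dB R) := by
  refine ⟨inferInstance, fun y => ?_, isDimFun_dB R⟩
  letI : Algebra R ((Spec (CommRingCat.of R)).presheaf.stalk y) := StructureSheaf.stalkAlgebra R y
  haveI : IsLocalization.AtPrime ((Spec (CommRingCat.of R)).presheaf.stalk y) y.asIdeal :=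
    StructureSheaf.IsLocalization.to_stalk R y
  exact CAlgMisc2.isUniversallyCatenary_localization y.asIdeal.primeCompl _
    EGA43.RectDepth.isUniversallyCatenary_of_regular

/-- A uniformiser. -/
noncomputable def uni : R := (IsDiscreteValuationRing.exists_irreducible R).choose

theorem irreducible_uni : Irreducible (uni R) := (IsDiscreteValuationRing.exists_irreducible R).choose_spec

/-- The uniformiser as a global function. -/
noncomputable def uniSec : Γ(B, ⊤) := (Scheme.ΓSpecIso (CommRingCat.of R)).inv (uni R)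

/-- The value of the uniformiser at a point of the base. -/
noncomputable def uniVal (y : ↥B) : (Spec (CommRingCat.of R)).residueField y :=
  (Spec (CommRingCat.of R)).evaluation ⊤ y trivial (uniSec R)

theorem uniVal_gen : uniVal R (gen R) ≠ 0 := by
  intro h
  have h1 := (Scheme.evaluation_eq_zero_iff_notMem_basicOpen _ _ _ _).1 h
  rw [show (Spec (CommRingCat.of R)).basicOpen (uniSec R) = PrimeSpectrum.basicOpen (uni R) from
    basicOpen_eq_of_affine (R := CommRingCat.of R) (uni R)] at h1
  have h2 : uni R ∈ (gen R).asIdeal := not_not.1 h1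
  rw [gen_asIdeal] at h2
  exact (irreducible_uni R).ne_zero (Ideal.mem_bot.1 h2)

theorem maximalIdeal_stalk_clo : maximalIdeal ((Spec (CommRingCat.of R)).presheaf.stalk (clo R)) =
    Ideal.span {(Spec (CommRingCat.of R)).presheaf.germ ⊤ (clo R) trivial (uniSec R)} := by
  letI : Algebra R ((Spec (CommRingCat.of R)).presheaf.stalk (clo R)) := StructureSheaf.stalkAlgebra R (clo R)
  haveI : IsLocalization.AtPrime ((Spec (CommRingCat.of R)).presheaf.stalk (clo R)) (clo R).asIdeal :=
    StructureSheaf.IsLocalization.to_stalk R (clo R)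
  rw [← IsLocalization.AtPrime.map_eq_maximalIdeal (clo R).asIdeal
      ((Spec (CommRingCat.of R)).presheaf.stalk (clo R)),
    show (clo R).asIdeal = Ideal.span {uni R} from (irreducible_uni R).maximalIdeal_eq, Ideal.map_span,
    Set.image_singleton]
  rfl

variable {R} {X Y : Scheme.{u}}

/-- The value of the uniformiser at a point of a scheme over the base. -/
noncomputable def piAt (a : X ⟶ B) (ξ : X) : X.residueField ξ :=
  (a.residueFieldMap ξ).hom (uniVal R (a ξ))

theorem piAt_comp (a : Y ⟶ B) (f : X ⟶ Y) (ξ : X) :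
    piAt (f ≫ a) ξ = (f.residueFieldMap ξ).hom (piAt a (f ξ)) := by
  show ((f ≫ a).residueFieldMap ξ).hom (uniVal R (a (f ξ))) = _
  rw [Scheme.residueFieldMap_comp]
  rfl

theorem piAt_ne_zero (a : X ⟶ B) {ξ : X} (h : a ξ = gen R) : piAt a ξ ≠ 0 := by
  intro e
  have h1 : uniVal R (a ξ) = 0 := (map_eq_zero (a.residueFieldMap ξ).hom).1 e
  rw [h] at h1
  exact uniVal_gen R h1

/-- The pullback of the uniformiser to a stalk. -/
noncomputable def uniStalk (a : X ⟶ B) (x : X) : X.presheaf.stalk x :=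
  (a.stalkMap x).hom ((Spec (CommRingCat.of R)).presheaf.germ ⊤ (a x) trivial (uniSec R))

theorem piAt_eq_specMap (a : X ⟶ B) {x ξ : X} (h : ξ ⤳ x) : piAt a ξ = Cyc.specMap x ξ h (uniStalk a x) := by
  rw [uniStalk, ← residueFieldMap_specMap, specMap_germ]
  rfl

theorem map_maximal_clo (a : X ⟶ B) {x : X} (hx : a x = clo R) :
    (maximalIdeal ((Spec (CommRingCat.of R)).presheaf.stalk (a x))).map (a.stalkMap x).hom =
      Ideal.span {uniStalk a x} := by
  have key : ∀ y, y = clo R → maximalIdeal ((Spec (CommRingCat.of R)).presheaf.stalk y) =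
      Ideal.span {(Spec (CommRingCat.of R)).presheaf.germ ⊤ y trivial (uniSec R)} := by
    rintro y rfl
    exact maximalIdeal_stalk_clo R
  rw [key _ hx, Ideal.map_span, Set.image_singleton]
  rfl

/-- The dimension function upstairs restricts to the fibres. -/
theorem delta_fiberι (a : X ⟶ B) {δ : X → ℤ} (hδ : Cyc.DeltaCompat a δ (dB R)) (y : ↥B)
    {δy : ↥(a.fiber y) → ℤ} (hy : Cyc.DeltaCompat (a.fiberToSpecResidueField y) δy (fun _ => 0))
    (z : ↥(a.fiber y)) : δ (a.fiberι y z) = δy z + dB R y := by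
  have e : a.fiberToSpecResidueField y ≫ (Spec (CommRingCat.of R)).fromSpecResidueField y = a.fiberι y ≫ a :=
    pullback.condition.symm
  have h := deltaCompat_square (a.fiberι y) ((Spec (CommRingCat.of R)).fromSpecResidueField y)
    (a.fiberToSpecResidueField y) a e hδ z
  obtain ⟨n, h1, h2⟩ := h
  obtain ⟨m, h3, h4⟩ := hy z
  have hnm : n = m := by exact_mod_cast h1.symm.trans h3
  have h5 : (Spec (CommRingCat.of R)).fromSpecResidueField y (a.fiberToSpecResidueField y z) = y :=
    Scheme.range_fromSpecResidueField y |>.le ⟨_, rfl⟩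
  simp only [h5] at h2
  simp only at h4
  omega

theorem isSetup_of_compat (a : X ⟶ B) [LocallyOfFiniteType a] {δ : X → ℤ} (hδ : Cyc.DeltaCompat a δ (dB R)) :
    Cyc.IsSetup X δ :=
  PB.isSetup_of_deltaCompat a (isSetup_dB R) hδ

theorem fiberι_apply (a : X ⟶ B) (y : ↥B) (z : ↥(a.fiber y)) : a (a.fiberι y z) = y :=
  (a.range_fiberι y).le ⟨z, rfl⟩

open Classical in
/-- A cycle on the generic fibre, on the whole scheme. -/
noncomputable def ext (a : X ⟶ B) (α : ↥(a.fiber (gen R)) → ℤ) : X → ℤ :=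
  Function.extend (a.fiberι (gen R)) α 0

theorem ext_apply (a : X ⟶ B) (α : ↥(a.fiber (gen R)) → ℤ) (z : ↥(a.fiber (gen R))) :
    ext a α (a.fiberι (gen R) z) = α z :=
  (a.fiberι (gen R)).isEmbedding.injective.extend_apply _ _ _

theorem ext_of_ne_gen (a : X ⟶ B) (α : ↥(a.fiber (gen R)) → ℤ) {x : X} (h : a x ≠ gen R) : ext a α x = 0 :=
  Function.extend_apply' _ _ _ fun ⟨z, hz⟩ => h (hz ▸ fiberι_apply a _ z)

/-- The intersection of a cycle with the divisor of the uniformiser. -/
noncomputable def divPi (a : X ⟶ B) (δ : X → ℤ) (c : X → ℤ) (x : X) : ℤ :=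
  ∑ᶠ ξ : X, c ξ * Cyc.divFun δ ξ (piAt a ξ) x

theorem length_spTerm (a : X ⟶ B) {δ : X → ℤ} [IsLocallyNoetherian X] (hδ : Cyc.IsDimFun X δ) {x ξ : X}
    (hx : a x = clo R) (hξ : a ξ = gen R) (h : ξ ⤳ x) (hd : δ x + 1 = δ ξ) :
    ((Module.length (X.presheaf.stalk x) (Cyc.LocQuot x ξ h ⧸
      (maximalIdeal ((Spec (CommRingCat.of R)).presheaf.stalk (a x))).map
        ((Ideal.Quotient.mk (RingHom.ker (Cyc.specMap x ξ h))).comp (a.stalkMap x).hom))).toNat : ℤ) =
      Cyc.divFun δ ξ (piAt a ξ) x := by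
  rw [Cyc.divFun, dif_pos ⟨h, hd⟩, piAt_eq_specMap a h,
    ordAt_formula hδ h hd _ (piAt_eq_specMap a h ▸ piAt_ne_zero a hξ)]
  congr 2
  rw [← Ideal.map_map, map_maximal_clo a hx]
  exact (DoubleQuot.quotQuotEquivQuotSupₐ (X.presheaf.stalk x) (RingHom.ker (Cyc.specMap x ξ h))
    (Ideal.span {uniStalk a x})).toLinearEquiv.length_eq

theorem spFun_eq (a : X ⟶ B) [LocallyOfFiniteType a] {δ : X → ℤ} (hδ : Cyc.DeltaCompat a δ (dB R))
    {δη : ↥(a.fiber (gen R)) → ℤ} (hη : Cyc.DeltaCompat (a.fiberToSpecResidueField (gen R)) δη (fun _ => 0))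
    {δs : ↥(a.fiber (clo R)) → ℤ} (hs : Cyc.DeltaCompat (a.fiberToSpecResidueField (clo R)) δs (fun _ => 0))
    (r : ℤ) (α : ↥(a.fiber (gen R)) → ℤ) (hα : ∀ z, α z ≠ 0 → δη z = r) (x : ↥(a.fiber (clo R))) :
    Cyc.spFun a (gen R) (clo R) δη δs r α x = divPi a δ (ext a α) (a.fiberι (clo R) x) := by
  classical
  obtain ⟨hN, -, hd⟩ := isSetup_of_compat a hδ
  haveI := hN
  have ex := delta_fiberι a hδ _ hs x
  rw [dB_clo, add_zero] at ex
  have ez : ∀ z, δ (a.fiberι (gen R) z) = δη z + 1 := fun z => by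
    rw [delta_fiberι a hδ _ hη z, dB_gen]
  let F : ↥(a.fiber (gen R)) → ℤ := fun z =>
    α z * Cyc.divFun δ (a.fiberι (gen R) z) (piAt a (a.fiberι (gen R) z)) (a.fiberι (clo R) x)
  have hR : divPi a δ (ext a α) (a.fiberι (clo R) x) = ∑ᶠ z, F z := by
    rw [divPi, ← finsum_mem_univ, finsum_mem_inter_support_eq' _ Set.univ (Set.range (a.fiberι (gen R)))
      (fun ξ hξ => iff_of_true trivial ?_), finsum_mem_range (a.fiberι (gen R)).isEmbedding.injective]
    · exact finsum_congr fun z => by rw [ext_apply]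
    · by_contra hn
      refine hξ ?_
      show Function.extend (⇑(a.fiberι (gen R))) α 0 ξ * _ = 0
      rw [Function.extend_apply' α (0 : X → ℤ) ξ (fun ⟨z, hz⟩ => hn ⟨z, hz⟩)]
      simp
  rw [hR]
  simp only [Cyc.spFun]
  split_ifs with hxr
  · rw [← finsum_mem_univ F, finsum_mem_inter_support_eq' (f := F) Set.univ
      {z | δη z = r ∧ a.fiberι (gen R) z ⤳ a.fiberι (clo R) x} (fun z hz => iff_of_true trivial ?_)]
    · refine Eq.trans ?_ (finsum_subtype_eq_finsum_cond (f := F) (fun z => δη z = r ∧ a.fiberι (gen R) z ⤳ a.fiberι (clo R) x))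
      refine finsum_congr fun z => ?_
      simp only [F]
      congr 1
      exact length_spTerm a hd (fiberι_apply a _ x) (fiberι_apply a _ z.1) z.2.2
        (by rw [ex, ez, z.2.1, hxr])
    · have h1 : α z ≠ 0 := fun e => hz (by simp [F, e])
      refine ⟨hα z h1, ?_⟩
      by_contra hn
      exact hz (by simp [F, Cyc.divFun, hn])
  · symm
    refine finsum_eq_zero_of_forall_eq_zero fun z => ?_
    by_cases h1 : α z = 0
    · simp [F, h1]
    · have h2 := hα z h1
      have : ¬ δ (a.fiberι (clo R) x) + 1 = δ (a.fiberι (gen R) z) := by rw [ex, ez]; omega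
      simp [F, Cyc.divFun, this]

end Groth.Agent.CycLib28.Sp
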