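import Groth.Agent.CycLib28.Sp.Basic
import Groth.Agent.CycLib28.C1Push
import Groth.Agent.CycLib28.C1Flat
import Groth.Agent.CycLib28.C1Indep
import Groth.Agent.CycLib28.DegZero

/-!
# The intersection with the divisor of the uniformiser commutes with flat pullback and proper pushforward
-/

set_option autoImplicit false
set_option backward.isDefEq.respectTransparency false
set_option linter.style.haveILetI false
set_option linter.unusedSectionVars false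

universe u

open CategoryTheory CategoryTheory.Limits AlgebraicGeometry IsLocalRing
open Groth.Agent.CycLim28

namespace Groth.Agent.CycLib28.Sp

variable {R : Type u} [CommRing R] [IsDomain R] [IsDiscreteValuationRing R]
variable {X Y : Scheme.{u}}

local notation "B" => Spec (CommRingCat.of R)

theorem piAt_congr (b : Y ⟶ B) {η η' : Y} (e : η' = η) :
    (Y.residueFieldCongr e.symm).hom (piAt b η) = piAt b η' := by
  subst e
  simp

theorem exists_specializes_over (f : X ⟶ Y) [IsProper f] (ξ : X) (y : Y) (h : f ξ ⤳ y) :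
    ∃ x, f x = y ∧ ξ ⤳ x := by
  obtain ⟨x, hx1, hx2⟩ := f.isClosedMap.specializingMap h
  exact ⟨x, hx2, hx1⟩

theorem divPi_pullback (b : Y ⟶ B) (f : X ⟶ Y) [Flat f] [IsLocallyNoetherian X] [IsLocallyNoetherian Y]
    {δX : X → ℤ} {δY : Y → ℤ} (hX : Cyc.IsDimFun X δX) (hY : Cyc.IsDimFun Y δY) (r : ℤ)
    (hc : ∀ x, GenInFibre f x → δX x = δY (f x) + r) (α : AlgebraicCycle Y ℤ)
    (hα : ∀ η, α η ≠ 0 → b η = gen R) (x : X) :
    Cyc.pullFun f δX δY r (divPi b δY ⇑α) x = divPi (f ≫ b) δX (Cyc.pullFun f δX δY r ⇑α) x := by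
  classical
  obtain ⟨_, ⟨V, hV, rfl⟩, hxV, -⟩ :=
    X.isBasis_affineOpens.exists_subset_of_mem_open (Set.mem_univ x) isOpen_univ
  replace hV : IsAffineOpen V := hV
  let S : Finset X := ((finite_pullback_support f α hV).subset
    (show {ξ | ξ ⤳ x ∧ α (f ξ) ≠ 0 ∧ GenInFibre f ξ} ⊆ _ from fun ξ hξ ↦ ⟨hξ.1.mem_open V.2 hxV, hξ.2⟩)).toFinset
  have hS : ∀ ξ, ξ ∈ S ↔ ξ ⤳ x ∧ α (f ξ) ≠ 0 ∧ GenInFibre f ξ := fun ξ ↦ Set.Finite.mem_toFinset _
  let E : Finset Y := (finite_specializing α (f x)).toFinset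
  have hE : ∀ η, η ∈ E ↔ η ⤳ f x ∧ α η ≠ 0 := fun η ↦ Set.Finite.mem_toFinset _
  symm
  rw [divPi, finsum_eq_sum_of_support_subset _ (s := S) (fun ξ hξ ↦ ?_)]
  swap
  · refine Finset.mem_coe.mpr ((hS ξ).mpr ⟨?_, ?_, ?_⟩)
    · by_contra h
      exact right_ne_zero_of_mul hξ (divFun_eq_zero_of_not_specializes _ h)
    · have := left_ne_zero_of_mul hξ
      rw [pullFun_eq f δX δY r hc] at this
      exact left_ne_zero_of_mul this
    · by_contra h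
      have := left_ne_zero_of_mul hξ
      rw [pullFun_eq f δX δY r hc, lenFibre_eq_top f h] at this
      simp at this
  rw [pullFun_eq f δX δY r hc, divPi, finsum_eq_sum_of_support_subset _ (s := E) (fun η hη ↦ ?_),
    Finset.sum_mul, ← Finset.sum_fiberwise_of_maps_to (g := fun ξ ↦ f ξ) (t := E) (fun ξ hξ ↦ ?_)]
  rotate_left
  · exact (hE _).mpr ⟨((hS ξ).mp hξ).1.map f.continuous, ((hS ξ).mp hξ).2.1⟩
  · refine Finset.mem_coe.mpr ((hE η).mpr ⟨?_, left_ne_zero_of_mul hη⟩)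
    by_contra h
    exact right_ne_zero_of_mul hη (divFun_eq_zero_of_not_specializes _ h)
  refine Finset.sum_congr rfl fun η hη ↦ ?_
  obtain ⟨hηy, hαη⟩ := (hE η).mp hη
  rw [mul_assoc, ← pullFun_eq f δX δY r hc,
    pullFun_divFun f hX hY r hc η _ (piAt_ne_zero b (hα η hαη)) x,
    finsum_eq_sum_of_support_subset _ (s := (S.filter fun ξ ↦ f ξ = η).subtype _) (fun ξ hξ ↦ ?_), Finset.mul_sum]
  swap
  · have hsp : ξ.1 ⤳ x := by
      by_contra h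
      exact hξ (by change _ * _ = 0; rw [divFun_eq_zero_of_not_specializes _ h, mul_zero])
    simp only [Finset.coe_sort_coe, Finset.mem_coe, Finset.mem_subtype, Finset.mem_filter]
    exact ⟨(hS _).mpr ⟨hsp, by rw [ξ.2.2]; exact hαη, ξ.2.1⟩, ξ.2.2⟩
  symm
  refine Finset.sum_bij' (fun ξ _ ↦ ξ.1) (fun ξ hξ ↦ ⟨ξ, ((hS ξ).mp (Finset.mem_filter.mp hξ).1).2.2, (Finset.mem_filter.mp hξ).2⟩)
    (fun ξ hξ ↦ Finset.mem_subtype.mp hξ) (fun ξ hξ ↦ Finset.mem_subtype.mpr hξ) (fun _ _ ↦ rfl) (fun _ _ ↦ rfl) ?_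
  intro ξ hξ
  have hres : (f.residueFieldMap ξ.1) ((Y.residueFieldCongr ξ.2.2.symm).hom (piAt b η)) = piAt (f ≫ b) ξ.1 := by
    rw [piAt_congr b ξ.2.2, piAt_comp]
  rw [pullFun_eq f δX δY r hc, hres, show α (f ξ.1) = α η by rw [ξ.2.2]]
  ring

theorem finite_near_fibre (f : X ⟶ Y) [IsProper f] (c : AlgebraicCycle X ℤ) (y : Y) :
    {ξ : X | c ξ ≠ 0 ∧ ∃ x, f x = y ∧ ξ ⤳ x}.Finite := by
  classical
  have hK := f.isCompact_preimage_singleton y
  choose U hU hxU using fun x : X => (X.isBasis_affineOpens.exists_subset_of_mem_open (Set.mem_univ x) isOpen_univ)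
  obtain ⟨t, ht⟩ := hK.elim_finite_subcover U
    (fun x => by obtain ⟨V, -, e⟩ := hU x; exact e ▸ V.2) fun x _ => Set.mem_iUnion.mpr ⟨x, (hxU x).1⟩
  have hfin : ∀ x, (U x ∩ Function.support ⇑c).Finite := fun x => by
    obtain ⟨V, hV, e⟩ := hU x
    have hVc : IsAffineOpen V := hV
    rw [← e]
    exact (Function.locallyFinsupp.locallyFiniteSupport c).finite_inter_support_of_isCompact hVc.isCompact
  refine ((t.finite_toSet.biUnion fun x _ => hfin x)).subset ?_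
  rintro ξ ⟨hξ, x, hx, hsp⟩
  obtain ⟨i, hi, hxi⟩ := Set.mem_iUnion₂.mp (ht hx)
  refine Set.mem_biUnion hi ⟨?_, hξ⟩
  obtain ⟨V, -, e⟩ := hU i
  exact hsp.mem_open (e ▸ V.2) hxi

theorem divPi_map (b : Y ⟶ B) (f : X ⟶ Y) [IsProper f] [IsLocallyNoetherian X] [IsLocallyNoetherian Y]
    {δX : X → ℤ} {δY : Y → ℤ} (hX : Cyc.IsDimFun X δX) (hY : Cyc.IsDimFun Y δY)
    (hδ : Cyc.DeltaCompat f δX δY) (c : AlgebraicCycle X ℤ) (hc : ∀ ξ, c ξ ≠ 0 → b (f ξ) = gen R)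
    (D : AlgebraicCycle X ℤ) (y : Y) (hD : ∀ x, f x = y → D x = divPi (f ≫ b) δX ⇑c x) :
    AlgebraicCycle.map f δX δY D y = divPi b δY ⇑(AlgebraicCycle.map f δX δY c) y := by
  classical
  let Ξ := (finite_near_fibre f c y).toFinset
  have hΞ : ∀ ξ, ξ ∈ Ξ ↔ c ξ ≠ 0 ∧ ∃ x, f x = y ∧ ξ ⤳ x := fun ξ => Set.Finite.mem_toFinset _
  have hne : ∀ ξ ∈ Ξ, piAt (f ≫ b) ξ ≠ 0 := fun ξ hξ => piAt_ne_zero _ (hc ξ ((hΞ ξ).1 hξ).1)
  have hneY : ∀ ξ ∈ Ξ, piAt b (f ξ) ≠ 0 := fun ξ hξ => piAt_ne_zero _ (hc ξ ((hΞ ξ).1 hξ).1)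
  choose Dc hDc using fun ξ : {ξ // ξ ∈ Ξ} => exists_divCycle hX ξ.1 _ (hne ξ.1 ξ.2)
  let S : Finset X := Ξ.attach.biUnion fun ξ => (finite_fibre_inter_support f (Dc ξ) y).toFinset
  have hS : ∀ x ∈ S, f x = y := fun x hx => by
    obtain ⟨ξ, -, h⟩ := Finset.mem_biUnion.1 hx
    exact ((Set.Finite.mem_toFinset _).1 h).1
  have hsum : ∀ x, f x = y → D x = ∑ ξ ∈ Ξ.attach, c ξ.1 * Dc ξ x := fun x hx => by
    rw [hD x hx, divPi, finsum_eq_sum_of_support_subset _ (s := Ξ) (fun ξ hξ ↦ ?_)]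
    · rw [← Finset.sum_attach]
      exact Finset.sum_congr rfl fun ξ _ => by rw [hDc]
    · refine Finset.mem_coe.mpr ((hΞ ξ).2 ⟨left_ne_zero_of_mul hξ, x, hx, ?_⟩)
      by_contra h
      exact right_ne_zero_of_mul hξ (divFun_eq_zero_of_not_specializes _ h)
  rw [map_apply_finset f δX δY D y S hS (fun x hx hne => ?_)]
  swap
  · rw [hsum x hx] at hne
    obtain ⟨ξ, hξ, h⟩ := Finset.exists_ne_zero_of_sum_ne_zero hne
    exact Finset.mem_biUnion.2 ⟨ξ, hξ, (Set.Finite.mem_toFinset _).2 ⟨hx, right_ne_zero_of_mul h⟩⟩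
  have hstep : ∀ ξ : {ξ // ξ ∈ Ξ}, ∑ x ∈ S, Dc ξ x * (AlgebraicCycle.mapCoeff f δX δY x : ℤ) =
      (AlgebraicCycle.mapCoeff f δX δY ξ.1 : ℤ) * Cyc.divFun δY (f ξ.1) (piAt b (f ξ.1)) y := fun ξ => by
    rw [← map_apply_finset f δX δY (Dc ξ) y S hS (fun x hx h => Finset.mem_biUnion.2
      ⟨ξ, Finset.mem_attach _ _, (Set.Finite.mem_toFinset _).2 ⟨hx, h⟩⟩)]
    exact map_divFun_res hX hY f hδ ξ.1 (piAt b (f ξ.1)) (hneY ξ.1 ξ.2) (Dc ξ) (by rw [hDc, piAt_comp]) y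
  rw [Finset.sum_congr rfl fun x hx => by rw [hsum x (hS x hx), Finset.sum_mul], Finset.sum_comm]
  simp only [mul_assoc, ← Finset.mul_sum, hstep]
  rw [Finset.sum_attach Ξ fun ξ => c ξ * ((AlgebraicCycle.mapCoeff f δX δY ξ : ℤ) * Cyc.divFun δY (f ξ) (piAt b (f ξ)) y)]
  symm
  rw [divPi, finsum_eq_sum_of_support_subset _ (s := Ξ.image ⇑f) (fun η hη ↦ ?_),
    ← Finset.sum_fiberwise_of_maps_to (g := fun ξ => f ξ) (t := Ξ.image ⇑f) (fun ξ hξ => Finset.mem_image_of_mem _ hξ)]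
  · refine Finset.sum_congr rfl fun η hη => ?_
    by_cases hηy : η ⤳ y
    · rw [map_apply_finset f δX δY c η (Ξ.filter fun ξ => f ξ = η) (fun ξ hξ => (Finset.mem_filter.1 hξ).2)
        (fun ξ hξη hcξ => Finset.mem_filter.2 ⟨(hΞ ξ).2 ⟨hcξ, ?_⟩, hξη⟩), Finset.sum_mul]
      · refine Finset.sum_congr rfl fun ξ hξ => ?_
        obtain ⟨-, rfl⟩ := Finset.mem_filter.1 hξ
        ring
      · obtain ⟨x, hx1, hx2⟩ := exists_specializes_over f ξ y (hξη ▸ hηy)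
        exact ⟨x, hx1, hx2⟩
    · rw [divFun_eq_zero_of_not_specializes _ hηy, mul_zero]
      refine (Finset.sum_eq_zero fun ξ hξ => ?_).symm
      obtain ⟨-, rfl⟩ := Finset.mem_filter.1 hξ
      rw [divFun_eq_zero_of_not_specializes _ hηy, mul_zero, mul_zero]
  · have h1 := left_ne_zero_of_mul hη
    have hηy : η ⤳ y := by
      by_contra h
      exact right_ne_zero_of_mul hη (divFun_eq_zero_of_not_specializes _ h)
    rw [map_apply] at h1
    obtain ⟨ξ, hξ, h2⟩ := exists_ne_zero_of_finsum_mem_ne_zero h1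
    obtain ⟨x, hx1, hx2⟩ := exists_specializes_over f ξ y ((show f ξ = η from hξ).symm ▸ hηy)
    exact Finset.mem_coe.2 (Finset.mem_image.2 ⟨ξ, (hΞ ξ).2 ⟨left_ne_zero_of_mul h2, x, hx1, hx2⟩, hξ⟩)

end Groth.Agent.CycLib28.Sp
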