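import Groth.Agent.CycLib28.Sp.Fibre
import Groth.Agent.CycLib28.GysinSheaf
import Groth.Agent.CycLib28.FieldExt.PullEq
import Groth.Agent.SchMor12.MonoDiscrete

/-!
# Specialisation of the cycle of a sheaf flat over a discrete valuation ring
-/

set_option autoImplicit false
set_option backward.isDefEq.respectTransparency false
set_option linter.style.haveILetI false
set_option linter.unusedSectionVars false

universe u

open CategoryTheory CategoryTheory.Limits AlgebraicGeometry IsLocalRing
open Groth.Agent.CycLim28 Groth.Agent.CycLib28.PB Groth.Agent.Coherent Groth.Agent.PicLib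
open Groth.Agent.CycLib28.FieldExt

namespace Groth.Agent.CycLib28.Sp

variable {R : Type u} [CommRing R] [IsDomain R] [IsDiscreteValuationRing R]
variable {X : Scheme.{u}}

theorem uniVal_clo : uniVal R (clo R) = 0 := by
  refine (Scheme.evaluation_eq_zero_iff_notMem_basicOpen _ _ _ _).2 ?_
  rw [show (Spec (CommRingCat.of R)).basicOpen (uniSec R) = PrimeSpectrum.basicOpen (uni R) from
    basicOpen_eq_of_affine (R := CommRingCat.of R) (uni R)]
  exact fun h => h (irreducible_uni R).not_isUnit

theorem uni_mem_iff (y : ↥(Spec (CommRingCat.of R))) : uni R ∈ y.asIdeal ↔ y = clo R := by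
  rcases eq_gen_or_clo R y with rfl | rfl
  · refine iff_of_false (fun h => ?_) (fun h => clo_ne_gen R h.symm)
    rw [gen_asIdeal] at h
    exact (irreducible_uni R).ne_zero (Ideal.mem_bot.1 h)
  · exact iff_of_true (irreducible_uni R).not_isUnit rfl

variable (R) in
theorem isZeroSchemeOf_clo : Cyc.IsZeroSchemeOf ((Spec (CommRingCat.of R)).fromSpecResidueField (clo R))
    (Coh.structureModule _) (specSec (uni R)) := by
  refine ⟨?_, fun d => ?_⟩
  · rw [Scheme.range_fromSpecResidueField]
    ext y
    show y = clo R ↔ _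
    rw [← uni_mem_iff]
    exact (secFibre_specSec_eq_zero_iff (uni R) y).symm
  · let i := (Spec (CommRingCat.of R)).fromSpecResidueField (clo R)
    have hd : i d = clo R := Scheme.range_fromSpecResidueField (clo R) |>.le ⟨d, rfl⟩
    refine ⟨_, _, ?_, germ_specSec (uni R) _, ?_⟩
    · refine Submodule.eq_top_iff'.2 fun v => ?_
      obtain ⟨c, hc⟩ := (VarietyLib.gen_germ_bijective (isGen_one (Spec (CommRingCat.of R)))
        (show i d ∈ (⊤ : (Spec (CommRingCat.of R)).Opens) from trivial)).2 v
      exact Submodule.mem_span_singleton.2 ⟨c, hc⟩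
    · haveI : Subsingleton ↥(Spec ((Spec (CommRingCat.of R)).residueField (clo R))) :=
        inferInstanceAs (Subsingleton (PrimeSpectrum _))
      have hf := SchMor12.isField_stalk_of_discrete (Spec ((Spec (CommRingCat.of R)).residueField (clo R))) d
      letI := hf.toField
      have hker : RingHom.ker (i.stalkMap d).hom = maximalIdeal _ :=
        IsLocalRing.eq_maximalIdeal (RingHom.ker_isMaximal_of_surjective _ (i.stalkMap_surjective d))
      rw [hker]
      have key : ∀ y, y = clo R → maximalIdeal ((Spec (CommRingCat.of R)).presheaf.stalk y) =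
          Ideal.span {(Spec (CommRingCat.of R)).presheaf.germ ⊤ y trivial (uniSec R)} := by
        rintro y rfl
        exact maximalIdeal_stalk_clo R
      exact key _ hd

theorem length_stalk_pullback_open {D : Scheme.{u}} (i : D ⟶ X) [IsOpenImmersion i] (F : X.Modules) (d : D) :
    Module.length (D.presheaf.stalk d) (((Scheme.Modules.pullback i).obj F).presheaf.stalk d) =
      Module.length (X.presheaf.stalk (i d)) (F.presheaf.stalk (i d)) := by
  algebraize [(i.stalkMap d).hom]
  have hbij : Function.Bijective (algebraMap (X.presheaf.stalk (i d)) (D.presheaf.stalk d)) :=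
    ConcreteCategory.bijective_of_isIso (i.stalkMap d)
  have e : ((DerSch.stalkFunctor D d).obj ((Scheme.Modules.pullback i).obj F)) ≅
      (ModuleCat.extendScalars (i.stalkMap d).hom).obj ((DerSch.stalkFunctor X (i d)).obj F) :=
    (ModStalk.pullbackStalkIso i d).app F
  refine e.toLinearEquiv.length_eq.trans ?_
  change Module.length (D.presheaf.stalk d)
    (TensorProduct (X.presheaf.stalk (i d)) (D.presheaf.stalk d) (F.presheaf.stalk (i d))) = _
  rw [← Module.length_eq_of_surjective (S := X.presheaf.stalk (i d))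
    (M := TensorProduct (X.presheaf.stalk (i d)) (D.presheaf.stalk d) (F.presheaf.stalk (i d))) hbij.2]
  let q := AlgEquiv.ofBijective (Algebra.ofId (X.presheaf.stalk (i d)) (D.presheaf.stalk d)) hbij
  exact ((TensorProduct.congr q.symm.toLinearEquiv (LinearEquiv.refl _ (F.presheaf.stalk (i d)))).trans
    (TensorProduct.lid _ _)).length_eq

variable (a : X ⟶ Spec (CommRingCat.of R))

theorem injective_uniStalk_smul {F : X.Modules} (hflat : FlatMod.IsFlatOver a F) (x : X) :
    Function.Injective fun m : F.presheaf.stalk x => uniStalk a x • m := by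
  letI := FlatMod.moduleStalkOver a F x
  haveI : Module.Flat ((Spec (CommRingCat.of R)).presheaf.stalk (a x)) (F.presheaf.stalk x) := hflat x
  have hne : (Spec (CommRingCat.of R)).presheaf.germ ⊤ (a x) trivial (uniSec R) ≠ 0 := fun e => by
    have h1 := germ_injective_of_isIntegral (Spec (CommRingCat.of R)) (a x) (U := ⊤) trivial (e.trans (map_zero _).symm)
    refine (irreducible_uni R).ne_zero ?_
    simpa [uniSec] using congrArg (Scheme.ΓSpecIso (CommRingCat.of R)).hom h1
  have h := Module.Flat.isSMulRegular_of_isRegular (M := F.presheaf.stalk x) (isRegular_iff_ne_zero.2 hne)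
  exact fun m m' e => h e

theorem nontrivial_of_length_ne_zero {S M : Type*} [Ring S] [AddCommGroup M] [Module S M]
    (h : Module.length S M ≠ 0) : Nontrivial M := by
  by_contra hn
  rw [not_nontrivial_iff_subsingleton] at hn
  exact h (Module.length_eq_zero_iff.2 hn)

theorem nontrivial_stalk_of_pullback_open {D : Scheme.{u}} (i : D ⟶ X) [IsOpenImmersion i] (F : X.Modules)
    (d : D) [Nontrivial (F.presheaf.stalk (i d))] :
    Nontrivial (((Scheme.Modules.pullback i).obj F).presheaf.stalk d) :=
  nontrivial_of_length_ne_zero (S := D.presheaf.stalk d)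
    (by rw [length_stalk_pullback_open]; exact Module.length_pos.ne')

theorem nontrivial_of_pullback_closed {D : Scheme.{u}} (i : D ⟶ X) [IsClosedImmersion i] (F : X.Modules)
    (d : D) (h : Nontrivial (((Scheme.Modules.pullback i).obj F).presheaf.stalk d)) :
    Nontrivial (F.presheaf.stalk (i d)) := by
  haveI := h
  have h1 : Module.length (D.presheaf.stalk d) (((Scheme.Modules.pullback i).obj F).presheaf.stalk d) ≠ 0 :=
    Module.length_pos.ne'
  rw [length_stalk_pullback_closed] at h1
  haveI := nontrivial_of_length_ne_zero h1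
  exact (Submodule.mkQ_surjective (RingHom.ker (i.stalkMap d).hom • ⊤ :
    Submodule (X.presheaf.stalk (i d)) (F.presheaf.stalk (i d)))).nontrivial

/-- Over the closed point the support of a sheaf flat over the base has smaller dimension. -/
theorem exists_generization [IsLocallyNoetherian X] {F : X.Modules} (hF : Coh.IsCoh F)
    (hflat : FlatMod.IsFlatOver a F) {x : X} (hx : a x = clo R) (hn : Nontrivial (F.presheaf.stalk x)) :
    ∃ ξ, ξ ⤳ x ∧ ξ ≠ x ∧ a ξ = gen R ∧ Nontrivial (F.presheaf.stalk ξ) := by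
  haveI := hn
  haveI : Module.Finite (X.presheaf.stalk x) (F.presheaf.stalk x) := AssSch12.finite_stalk hF x
  obtain ⟨⟨p, hp⟩⟩ : Nonempty (Module.annihilator (X.presheaf.stalk x) (F.presheaf.stalk x)).minimalPrimes :=
    Ideal.nonempty_minimalPrimes (fun e => not_subsingleton (F.presheaf.stalk x)
      (Module.annihilator_eq_top_iff.1 e))
  have hass : p ∈ associatedPrimes (X.presheaf.stalk x) (F.presheaf.stalk x) :=
    Module.associatedPrimes.minimalPrimes_annihilator_subset_associatedPrimes _ _ hp
  have hπ : uniStalk a x ∉ p := fun h => by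
    have h1 : uniStalk a x ∈ ⋃ q ∈ associatedPrimes (X.presheaf.stalk x) (F.presheaf.stalk x),
        (q : Set (X.presheaf.stalk x)) := Set.mem_biUnion hass h
    rw [biUnion_associatedPrimes_eq_zero_divisors] at h1
    obtain ⟨m, hm, h2⟩ := h1
    exact hm (injective_uniStalk_smul a hflat x (h2.trans (smul_zero _).symm))
  haveI hpp : p.IsPrime := hp.1.1
  let P : PrimeSpectrum (X.presheaf.stalk x) := ⟨p, hpp⟩
  have hsupp : P ∈ Module.support (X.presheaf.stalk x) (F.presheaf.stalk x) :=
    Module.mem_support_iff_of_finite.2 hp.1.2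
  have hsp := fromSpecStalk_specializes x P
  have hπ0 : piAt a (X.fromSpecStalk x P) ≠ 0 := by
    rw [piAt_eq_specMap a hsp]
    exact fun h0 => hπ (by rw [show p = RingHom.ker (Cyc.specMap x _ hsp) from (ker_specMap P hsp).symm]; exact h0)
  have hgen : a (X.fromSpecStalk x P) = gen R := by
    refine (eq_gen_or_clo R _).resolve_right fun e => hπ0 ?_
    show (a.residueFieldMap _).hom (uniVal R (a (X.fromSpecStalk x P))) = 0
    rw [show uniVal R (a (X.fromSpecStalk x P)) = 0 by rw [e]; exact uniVal_clo, map_zero]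
  exact ⟨_, hsp, fun e => clo_ne_gen R (hx.symm.trans (e ▸ hgen)), hgen,
    (localizedModule_stalk hF.1 x P).2.1 hsupp⟩

theorem spFun_sheafFun [LocallyOfFiniteType a] [IsLocallyNoetherian X]
    {δη : ↥(a.fiber (gen R)) → ℤ} {δs : ↥(a.fiber (clo R)) → ℤ}
    (hη : Cyc.DeltaCompat (a.fiberToSpecResidueField (gen R)) δη (fun _ => 0))
    (hs : Cyc.DeltaCompat (a.fiberToSpecResidueField (clo R)) δs (fun _ => 0)) (r : ℤ) (F : X.Modules)
    (hF : Coh.IsCoh F) (hflat : FlatMod.IsFlatOver a F)
    (hdim : ∀ ζ : ↥(a.fiber (gen R)),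
      Nontrivial (((Scheme.Modules.pullback (a.fiberι (gen R))).obj F).presheaf.stalk ζ) → δη ζ ≤ r) :
    (∀ x : ↥(a.fiber (clo R)),
        Nontrivial (((Scheme.Modules.pullback (a.fiberι (clo R))).obj F).presheaf.stalk x) → δs x ≤ r) ∧
      Cyc.spFun a (gen R) (clo R) δη δs r
          (Cyc.sheafFun δη r ((Scheme.Modules.pullback (a.fiberι (gen R))).obj F)) =
        Cyc.sheafFun δs r ((Scheme.Modules.pullback (a.fiberι (clo R))).obj F) := by
  classical
  obtain ⟨δ, hδ⟩ := exists_deltaCompat_of_locallyOfFiniteType a (dB R)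
  obtain ⟨-, -, hd⟩ := isSetup_of_compat a hδ
  haveI := isOpenImmersion_fiberι_gen a
  haveI := isClosedImmersion_fiberι_clo a
  have ez : ∀ z, δ (a.fiberι (gen R) z) = δη z + 1 := fun z => by rw [delta_fiberι a hδ _ hη z, dB_gen]
  have ex : ∀ z, δ (a.fiberι (clo R) z) = δs z := fun z => by rw [delta_fiberι a hδ _ hs z, dB_clo, add_zero]
  have hgenle : ∀ ξ, a ξ = gen R → Nontrivial (F.presheaf.stalk ξ) → δ ξ ≤ r + 1 := fun ξ hξ hn => by
    obtain ⟨z, rfl⟩ : ξ ∈ Set.range (a.fiberι (gen R)) := (a.range_fiberι (gen R)).ge hξ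
    haveI := hn
    rw [ez]
    linarith [hdim z (nontrivial_stalk_of_pullback_open _ F z)]
  have hclole : ∀ x, a x = clo R → Nontrivial (F.presheaf.stalk x) → δ x ≤ r := fun x hx hn => by
    obtain ⟨ξ, h1, h2, h3, h4⟩ := exists_generization a hF hflat hx hn
    have := (hd ξ x h1 h2).1
    have := hgenle ξ h3 h4
    omega
  refine ⟨fun x hx => ?_, ?_⟩
  · rw [← ex]
    exact hclole _ (fiberι_apply a _ x) (nontrivial_of_pullback_closed _ F x hx)
  funext x
  rw [spFun_eq a hδ hη hs r (Cyc.sheafFun δη r ((Scheme.Modules.pullback (a.fiberι (gen R))).obj F))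
      (fun z hz => by_contra fun h => hz (if_neg h)) x,
    show δs = fun z => δ (a.fiberι (clo R) z) from funext fun z => (ex z).symm]
  have hext : ext a (Cyc.sheafFun δη r ((Scheme.Modules.pullback (a.fiberι (gen R))).obj F)) =
      Cyc.sheafFun δ (r + 1) F := by
    funext ξ
    rcases eq_gen_or_clo R (a ξ) with hξ | hξ
    · obtain ⟨z, rfl⟩ : ξ ∈ Set.range (a.fiberι (gen R)) := (a.range_fiberι (gen R)).ge hξ
      rw [ext_apply, Cyc.sheafFun, Cyc.sheafFun, length_stalk_pullback_open, ez]
      exact if_congr (by omega) rfl rfl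
    · rw [ext_of_ne_gen _ _ (fun e => clo_ne_gen R (hξ.symm.trans e)), Cyc.sheafFun]
      split_ifs with h
      · haveI : Subsingleton (F.presheaf.stalk ξ) := not_nontrivial_iff_subsingleton.1 fun hn => by
          have := hclole ξ hξ hn
          omega
        rw [Module.length_eq_zero_iff.mpr inferInstance]; rfl
      · rfl
  rw [hext]
  let S := Spec (CommRingCat.of R)
  let i₀ := S.fromSpecResidueField (clo R)
  haveI : IsClosedImmersion i₀ := IsClosedImmersion.of_isPreimmersion _
    (by rw [Scheme.range_fromSpecResidueField]; exact isClosed_clo R)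
  let L := (Scheme.Modules.pullback a).obj (Coh.structureModule S)
  have hL : PicF.IsInvertible L := PicLoc.isInvertible_pullback a AmpleLib.isInvertible_structureModule
  obtain ⟨s, hs', hD⟩ := exists_pullSec_isZeroSchemeOf a AmpleLib.isInvertible_structureModule _ i₀
    (isZeroSchemeOf_clo R)
  subst hs'
  have hgen := isGen_pullSec a (isGen_one S) AmpleLib.isInvertible_structureModule
  have hgerm : ∀ z : X, L.presheaf.germ ⊤ z trivial (pullSec a (U := ⊤) (specSec (uni R))) =
      uniStalk a z • L.presheaf.germ (a ⁻¹ᵁ ⊤) z trivial (pullSec a (AmpleLib.oneSec ⊤)) := fun z =>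
    germ_pullSec_eq a (L := Coh.structureModule S) (U := ⊤) (specSec (uni R)) (AmpleLib.oneSec ⊤) (ξ := z)
      trivial trivial _ (germ_specSec (uni R) (a z))
  have hreg : ∀ (z : X) (t : L.presheaf.stalk z) (f : X.presheaf.stalk z),
      Submodule.span (X.presheaf.stalk z) {t} = ⊤ →
      (L.presheaf.germ ⊤ z trivial) (pullSec a (U := ⊤) (specSec (uni R))) = f • t →
      Function.Injective (fun m : F.presheaf.stalk z => f • m) := by
    intro z t f ht hf
    have hb := VarietyLib.gen_germ_bijective hgen (show z ∈ a ⁻¹ᵁ ⊤ from trivial)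
    obtain ⟨b, hb'⟩ := (gen_bijective hL ht).1.2 (L.presheaf.germ (a ⁻¹ᵁ ⊤) z trivial (pullSec a (AmpleLib.oneSec ⊤)))
    replace hb' : b • t = L.presheaf.germ (a ⁻¹ᵁ ⊤) z trivial (pullSec a (AmpleLib.oneSec ⊤)) := hb'
    obtain ⟨c, hc⟩ := hb.2 t
    replace hc : c • L.presheaf.germ (a ⁻¹ᵁ ⊤) z trivial (pullSec a (AmpleLib.oneSec ⊤)) = t := hc
    have hcb : c * b = 1 := (gen_bijective hL ht).1.1
      (show (c * b) • t = (1 : X.presheaf.stalk z) • t by rw [mul_smul, hb', hc, one_smul])
    have hfb : f = uniStalk a z * b := (gen_bijective hL ht).1.1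
      (show f • t = (uniStalk a z * b) • t by rw [mul_smul, hb', ← hgerm, hf])
    intro m m' h
    simp only [hfb, mul_smul] at h
    have h2 := congrArg (c • ·) (injective_uniStalk_smul a hflat z h)
    simpa [smul_smul, hcb] using h2
  have hdimX : ∀ z : X, Nontrivial (F.presheaf.stalk z) → δ z ≤ r + 1 := fun z hn => by
    rcases eq_gen_or_clo R (a z) with h | h
    · exact hgenle z h hn
    · linarith [hclole z h hn]
  refine Eq.trans ?_ (gysin_sheafFun_eq hd (a.fiberι (clo R)) hL _ hD r F hF hdimX hreg (fun _ => 0) x)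
  rw [divPi, Cyc.c1CapFun]
  refine finsum_congr fun ξ => ?_
  by_cases h0 : Cyc.sheafFun δ (r + 1) F ξ = 0
  · rw [h0, zero_mul, zero_mul]
  congr 1
  have hξ : a ξ = gen R := by
    by_contra hn
    exact h0 (by rw [← hext]; exact ext_of_ne_gen _ _ hn)
  have hres : (X.residue ξ).hom (uniStalk a ξ) = piAt a ξ := by
    rw [piAt_eq_specMap a (specializes_refl ξ), Cyc.specMap, TopCat.Presheaf.stalkSpecializes_refl, Category.id_comp]
  have hgz : (Submodule.Quotient.mk (L.presheaf.germ ⊤ ξ trivial (pullSec a (U := ⊤) (specSec (uni R)))) :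
      Cyc.secFibre L ξ) ≠ 0 := by
    rw [hgerm]
    intro h
    have h' := (mk_eq_zero_iff_gen hgen trivial _).1 h
    rw [hres] at h'
    exact piAt_ne_zero a hξ h'
  rw [Cyc.gysinChoice, if_pos hgz]
  symm
  by_cases hsp : ξ ⤳ a.fiberι (clo R) x
  · rw [secDivFun_eq_divFun hd hL hgen (show a.fiberι (clo R) x ∈ a ⁻¹ᵁ ⊤ from trivial)
      (show ξ ∈ a ⁻¹ᵁ ⊤ from trivial) (uniStalk a ξ) _ (congrArg _ (hgerm ξ)) hgz, hres]
  · rw [divFun_eq_zero_of_not_specializes _ hsp, Cyc.secDivFun, dif_neg fun h => hsp h.1]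

end Groth.Agent.CycLib28.Sp
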