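import Groth.Agent.CycLib28.Sp.Sheaf
import Groth.Agent.CycLib28.P1Subscheme
import Groth.Agent.VarietyLib.HilbStratumLocal
import Groth.Agent.EGA43.FibDepth.Unit
import Groth.Agent.Coherent.FinitePres

/-!
# Specialisation of the cycle of a closed subscheme flat over a discrete valuation ring
-/

set_option autoImplicit false
set_option backward.isDefEq.respectTransparency false
set_option linter.style.haveILetI false
set_option linter.unusedSectionVars false

universe u

open CategoryTheory CategoryTheory.Limits AlgebraicGeometry IsLocalRing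
open Groth.Agent.CycLim28

namespace Groth.Agent.CycLib28.Sp

variable {R : Type u} [CommRing R] [IsDomain R] [IsDiscreteValuationRing R]
variable {X W : Scheme.{u}} (ι : W ⟶ X) [IsClosedImmersion ι]

theorem isFlatOver_push_structure (a : X ⟶ Spec (CommRingCat.of R)) [Flat (ι ≫ a)] :
    FlatMod.IsFlatOver a ((Coh.push ι).obj (Coh.structureModule W)) := by
  haveI : Coh.IsQCoh (Coh.structureModule W) := Coherent.isQCoh_structureModule (X := W)
  exact (VarietyLib.isFlatOver_push_iff ι a _).2 fun x =>
    (EGA43.FibDepth.isFlatOverAt_structureModule _ x).2 (Flat.stalkMap (ι ≫ a) x)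

theorem mem_range_of_nontrivial {x : X}
    (h : Nontrivial (((Coh.push ι).obj (Coh.structureModule W)).presheaf.stalk x)) : x ∈ Set.range ι := by
  by_contra hn
  haveI := subsingleton_stalk_push ι (Coh.structureModule W) (x := x) hn
  exact not_subsingleton (((Coh.push ι).obj (Coh.structureModule W)).presheaf.stalk x) inferInstance

theorem length_stalk_push (z : W) :
    Module.length (X.presheaf.stalk (ι z)) (((Coh.push ι).obj (Coh.structureModule W)).presheaf.stalk (ι z)) =
      Module.length (W.presheaf.stalk z) (W.presheaf.stalk z) := by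
  letI : Algebra (X.presheaf.stalk (ι z)) (W.presheaf.stalk z) := (ι.stalkMap z).hom.toAlgebra
  obtain ⟨e⟩ := exists_stalk_push_equiv ι z
  rw [e.length_eq]
  exact Module.length_eq_of_surjective (ι.stalkMap_surjective z)

theorem nontrivial_stalk_push (z : W) :
    Nontrivial (((Coh.push ι).obj (Coh.structureModule W)).presheaf.stalk (ι z)) :=
  nontrivial_of_length_ne_zero (S := X.presheaf.stalk (ι z))
    (by rw [length_stalk_push]; exact Module.length_pos.ne')

theorem length_stalk_openImmersion {A C : Scheme.{u}} (j : A ⟶ C) [IsOpenImmersion j] (w : A) :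
    Module.length (A.presheaf.stalk w) (A.presheaf.stalk w) =
      Module.length (C.presheaf.stalk (j w)) (C.presheaf.stalk (j w)) := by
  algebraize [(j.stalkMap w).hom]
  have hb : Function.Bijective (algebraMap (C.presheaf.stalk (j w)) (A.presheaf.stalk w)) :=
    ConcreteCategory.bijective_of_isIso (j.stalkMap w)
  rw [← Module.length_eq_of_surjective (S := C.presheaf.stalk (j w)) (M := A.presheaf.stalk w) hb.2]
  exact (AlgEquiv.ofBijective (Algebra.ofId (C.presheaf.stalk (j w)) (A.presheaf.stalk w)) hb).toLinearEquiv.length_eq.symm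

theorem sheafFun_pullback_push_open {D : Scheme.{u}} (s : D ⟶ X) [IsOpenImmersion s] (δ : D → ℤ) (k : ℤ) :
    Cyc.sheafFun δ k ((Scheme.Modules.pullback s).obj ((Coh.push ι).obj (Coh.structureModule W))) =
      Cyc.subschemeFun δ k (pullback.snd ι s) := by
  funext x
  simp only [Cyc.subschemeFun, Cyc.sheafFun]
  split_ifs with hx
  swap
  · rfl
  rw [length_stalk_pullback_open]
  by_cases hr : x ∈ Set.range (pullback.snd ι s)
  · obtain ⟨w, rfl⟩ := hr
    rw [show {v | pullback.snd ι s v = pullback.snd ι s w} = {w} from Set.ext fun v ↦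
      ⟨fun h ↦ (pullback.snd ι s).isEmbedding.injective h, fun h ↦ congrArg _ h⟩, finsum_mem_singleton,
      length_stalk_openImmersion (pullback.fst ι s) w]
    have hz : ι (pullback.fst ι s w) = s (pullback.snd ι s w) :=
      congrArg (fun f : pullback ι s ⟶ X ↦ f w) pullback.condition
    rw [← hz, length_stalk_push]
  · rw [show {v | pullback.snd ι s v = x} = ∅ from Set.eq_empty_of_forall_notMem fun v h ↦ hr ⟨v, h⟩,
      finsum_mem_empty]
    rw [Scheme.Pullback.range_snd] at hr
    haveI := subsingleton_stalk_push ι (Coh.structureModule W) (x := s x) hr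
    rw [Module.length_eq_zero_iff.mpr inferInstance]
    rfl

theorem spFun_subscheme (a : X ⟶ Spec (CommRingCat.of R)) [LocallyOfFiniteType a] [Flat (ι ≫ a)]
    {δη : ↥(a.fiber (gen R)) → ℤ} {δs : ↥(a.fiber (clo R)) → ℤ}
    (hη : Cyc.DeltaCompat (a.fiberToSpecResidueField (gen R)) δη (fun _ => 0))
    (hs : Cyc.DeltaCompat (a.fiberToSpecResidueField (clo R)) δs (fun _ => 0)) (r : ℤ)
    (hdim : ∀ ζ : ↥(a.fiber (gen R)), a.fiberι (gen R) ζ ∈ Set.range ⇑ι → δη ζ ≤ r) :
    (∀ x : ↥(a.fiber (clo R)), a.fiberι (clo R) x ∈ Set.range ⇑ι → δs x ≤ r) ∧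
      Cyc.spFun a (gen R) (clo R) δη δs r
          (Cyc.subschemeFun δη r (pullback.snd ι (a.fiberι (gen R)))) =
        Cyc.subschemeFun δs r (pullback.snd ι (a.fiberι (clo R))) := by
  haveI : IsLocallyNoetherian X := LocallyOfFiniteType.isLocallyNoetherian a
  haveI : IsLocallyNoetherian W := LocallyOfFiniteType.isLocallyNoetherian ι
  haveI := isOpenImmersion_fiberι_gen a
  haveI := isClosedImmersion_fiberι_clo a
  have hF : Coh.IsCoh ((Coh.push ι).obj (Coh.structureModule W)) :=
    Coherent.isCoh_push_finite ι (Coherent.isCoh_structureModule W)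
  obtain ⟨h1, h2⟩ := spFun_sheafFun a hη hs r _ hF (isFlatOver_push_structure ι a) fun ζ hζ => hdim ζ <| by
    haveI := hζ
    have h0 : Module.length ((a.fiber (gen R)).presheaf.stalk ζ) (((Scheme.Modules.pullback (a.fiberι (gen R))).obj
        ((Coh.push ι).obj (Coh.structureModule W))).presheaf.stalk ζ) ≠ 0 := Module.length_pos.ne'
    rw [length_stalk_pullback_open] at h0
    exact mem_range_of_nontrivial ι (nontrivial_of_length_ne_zero h0)
  refine ⟨fun x hx => h1 x ?_, ?_⟩
  · obtain ⟨z, hz⟩ := hx
    obtain ⟨w, -, rfl⟩ := Scheme.Pullback.exists_preimage_pullback z x hz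
    have hz' : ι (pullback.fst ι (a.fiberι (clo R)) w) = a.fiberι (clo R) (pullback.snd ι (a.fiberι (clo R)) w) :=
      congrArg (fun f : pullback ι (a.fiberι (clo R)) ⟶ X ↦ f w) pullback.condition
    refine nontrivial_of_length_ne_zero (S := (a.fiber (clo R)).presheaf.stalk (pullback.snd ι (a.fiberι (clo R)) w)) ?_
    rw [length_stalk_pullback_closed]
    haveI : Nontrivial (((Coh.push ι).obj (Coh.structureModule W)).presheaf.stalk
        (a.fiberι (clo R) (pullback.snd ι (a.fiberι (clo R)) w))) := hz' ▸ nontrivial_stalk_push ι _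
    haveI : Module.Finite (X.presheaf.stalk (a.fiberι (clo R) (pullback.snd ι (a.fiberι (clo R)) w)))
      (((Coh.push ι).obj (Coh.structureModule W)).presheaf.stalk
        (a.fiberι (clo R) (pullback.snd ι (a.fiberι (clo R)) w))) := AssSch12.finite_stalk hF _
    have hne := Submodule.top_ne_ideal_smul_of_le_jacobson_annihilator
      (R := X.presheaf.stalk (a.fiberι (clo R) (pullback.snd ι (a.fiberι (clo R)) w)))
      (M := ((Coh.push ι).obj (Coh.structureModule W)).presheaf.stalk
        (a.fiberι (clo R) (pullback.snd ι (a.fiberι (clo R)) w)))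
      (I := RingHom.ker ((a.fiberι (clo R)).stalkMap (pullback.snd ι (a.fiberι (clo R)) w)).hom)
      ((IsLocalRing.le_maximalIdeal (RingHom.ker_ne_top _)).trans (IsLocalRing.maximalIdeal_le_jacobson _))
    haveI := Submodule.Quotient.nontrivial_iff.2 hne.symm
    exact Module.length_pos.ne'
  · rwa [sheafFun_pullback_push_open ι, sheafFun_pullback_push_eq] at h2

end Groth.Agent.CycLib28.Sp
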